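import Cfsg.Agent.Lib.CentralTypeEmbed.Wreath

/-!
# Solvable groups embed into quotients of groups of central type
-/

namespace CfsgLib.CentralTypeEmbed

open Matrix

set_option autoImplicit false
set_option linter.unusedSectionVars false
set_option linter.style.haveILetI false
set_option maxHeartbeats 1000000

universe u

variable {κ : Type} [Fintype κ] [DecidableEq κ]

/-- A finite matrix group of central type with scalars of order `m`. -/
structure IsCT (κ : Type) [Fintype κ] [DecidableEq κ] (m : ℕ) (H : Subgroup (GL κ ℂ)) : Prop where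
  ne : Nonempty κ
  sq : Squarefree m
  scal : ∀ c : ℂ, (∃ g ∈ H, (g : Matrix κ κ ℂ) = c • 1) ↔ c ^ m = 1
  vanish : ∀ g ∈ H, (¬ ∃ c : ℂ, (g : Matrix κ κ ℂ) = c • 1) → (g : Matrix κ κ ℂ).trace = 0
  card : Nat.card H = Fintype.card κ ^ 2 * m
  prime_deg : ∀ q : ℕ, q.Prime → q ∣ Fintype.card κ → q ∣ m

/-- The scalar matrices in a matrix group. -/
def scalars (H : Subgroup (GL κ ℂ)) : Subgroup H where
  carrier := {g | ∃ c : ℂ, ((g : GL κ ℂ) : Matrix κ κ ℂ) = c • 1}
  one_mem' := ⟨1, by simp⟩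
  mul_mem' := by
    rintro a b ⟨c, hc⟩ ⟨c', hc'⟩
    exact ⟨c * c', by rw [Subgroup.coe_mul, Units.val_mul, hc, hc', smul_mul_smul_comm, one_mul]⟩
  inv_mem' := by
    rintro a ⟨c, hc⟩
    refine ⟨c⁻¹, ?_⟩
    rcases isEmpty_or_nonempty κ with h | h
    · ext i; exact isEmptyElim i
    have hc0 : c ≠ 0 := by
      rintro rfl
      rw [zero_smul] at hc
      exact (Units.ne_zero (a : GL κ ℂ)) hc
    rw [Subgroup.coe_inv]
    refine Units.inv_eq_of_mul_eq_one_right ?_
    rw [hc, smul_mul_smul_comm, one_mul, mul_inv_cancel₀ hc0, one_smul]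

theorem scalar_inj [Nonempty κ] {a b : ℂ} (h : a • (1 : Matrix κ κ ℂ) = b • 1) : a = b := by
  obtain ⟨i⟩ := ‹Nonempty κ›
  simpa using congrFun (congrFun h i) i

theorem card_scalars {m : ℕ} {H : Subgroup (GL κ ℂ)} (h : IsCT κ m H) :
    Nat.card (scalars H) = m := by
  classical
  haveI := h.ne
  have hm : 0 < m := Nat.pos_of_ne_zero h.sq.ne_zero
  let f : scalars H → {c : ℂ // c ∈ Polynomial.nthRootsFinset m (1 : ℂ)} := fun g =>
    ⟨g.2.choose, (Polynomial.mem_nthRootsFinset hm _).2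
      ((h.scal _).1 ⟨_, (g : H).2, g.2.choose_spec⟩)⟩
  have hinj : Function.Injective f := fun a b e => by
    have e' : a.2.choose = b.2.choose := congrArg Subtype.val e
    exact Subtype.ext (Subtype.ext (Units.ext (a.2.choose_spec.trans (e' ▸ b.2.choose_spec.symm))))
  have hsurj : Function.Surjective f := fun ⟨c, hc⟩ => by
    obtain ⟨g, hg, e⟩ := (h.scal c).2 ((Polynomial.mem_nthRootsFinset hm _).1 hc)
    refine ⟨⟨⟨g, hg⟩, c, e⟩, Subtype.ext ?_⟩
    exact scalar_inj (((⟨⟨g, hg⟩, c, e⟩ : scalars H).2.choose_spec).symm.trans e)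
  rw [Nat.card_eq_of_bijective f ⟨hinj, hsurj⟩, Nat.card_eq_fintype_card, Fintype.card_coe,
    (Complex.isPrimitiveRoot_exp m hm.ne').card_nthRootsFinset]

theorem index_scalars {m : ℕ} {H : Subgroup (GL κ ℂ)} (h : IsCT κ m H) :
    (scalars H).index = Fintype.card κ ^ 2 := by
  have h1 := (scalars H).card_mul_index
  rw [card_scalars h, h.card, mul_comm _ m] at h1
  exact Nat.eq_of_mul_eq_mul_left (Nat.pos_of_ne_zero h.sq.ne_zero) h1

section step

variable {p : ℕ} [NeZero p]

/-- The predicate describing the members of the enlarged group. -/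
def Mem (H : Subgroup (GL κ ℂ)) (m' : ℕ) (g : GL (Idx κ p) ℂ) : Prop :=
  ∃ (c : ℂ) (h : ZMod p → GL κ ℂ) (j k : ZMod p), c ^ m' = 1 ∧ (∀ i, h i ∈ H) ∧
    (g : Matrix (Idx κ p) (Idx κ p) ℂ) = c • W (fun i => (h i : Matrix κ κ ℂ)) j k

theorem W_inv_spec (h : ZMod p → GL κ ℂ) (j k : ZMod p) {c : ℂ} (hc : c ≠ 0) :
    (c • W (fun i => (h i : Matrix κ κ ℂ)) j k) *
      ((c⁻¹ * e (k * j)) • W (fun i => ((h (i + j))⁻¹ : GL κ ℂ).1) (-j) (-k)) = 1 := by
  rw [smul_mul_smul_comm, W_mul_inv _ _ _ _ (fun i => by rw [sub_add_cancel, Units.mul_inv]),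
    smul_smul, ← mul_assoc, mul_inv_cancel₀ hc, one_mul, ← AddChar.map_add_eq_mul, add_neg_cancel,
    AddChar.map_zero_eq_one, one_smul]

/-- The enlarged group. -/
noncomputable def ext' (H : Subgroup (GL κ ℂ)) (m' : ℕ) (hm : 0 < m') (hp : p ∣ m') :
    Subgroup (GL (Idx κ p) ℂ) where
  carrier := {g | Mem H m' g}
  one_mem' := ⟨1, fun _ => 1, 0, 0, one_pow _, fun _ => one_mem H, by simp [W_one]⟩
  mul_mem' := by
    rintro a b ⟨c, h, j, k, hc, hh, ha⟩ ⟨c', h', j', k', hc', hh', hb⟩
    refine ⟨c * c' * e (k * j'), fun i => h i * h' (i - j), j + j', k + k', ?_,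
      fun i => mul_mem (hh i) (hh' _), ?_⟩
    · obtain ⟨r, rfl⟩ := hp
      rw [mul_pow, mul_pow, hc, hc', pow_mul, e_pow, one_pow, one_mul, one_mul]
    · rw [Units.val_mul, ha, hb, smul_mul_smul_comm, W_mul, smul_smul]
      simp only [Units.val_mul]
  inv_mem' := by
    rintro a ⟨c, h, j, k, hc, hh, ha⟩
    have hc0 : c ≠ 0 := fun e => by rw [e, zero_pow hm.ne'] at hc; exact zero_ne_one hc
    refine ⟨c⁻¹ * e (k * j), fun i => (h (i + j))⁻¹, -j, -k, ?_, fun i => inv_mem (hh _), ?_⟩
    · obtain ⟨r, rfl⟩ := hp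
      rw [mul_pow, inv_pow, hc, inv_one, one_mul, pow_mul, e_pow, one_pow]
    · refine Units.inv_eq_of_mul_eq_one_right ?_
      rw [ha]
      exact W_inv_spec h j k hc0

variable {H : Subgroup (GL κ ℂ)} {m m' : ℕ}

/-- A scalar member has trivial shift and twist and scalar factors. -/
theorem of_scalar (hp : p.Prime) (hH : IsCT κ m H) {h : ZMod p → GL κ ℂ} (hh : ∀ i, h i ∈ H)
    {j k : ZMod p} {c d : ℂ} (hd : d ≠ 0)
    (he : c • W (fun i => (h i : Matrix κ κ ℂ)) j k = d • 1) :
    j = 0 ∧ k = 0 ∧ ∃ z : ZMod p → ℂ, (∀ i, z i ^ m = 1 ∧ (h i : Matrix κ κ ℂ) = z i • 1) ∧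
      c * ∏ i, z i = d := by
  classical
  haveI := hH.ne
  have ht := congrArg Matrix.trace he
  rw [Matrix.trace_smul, Matrix.trace_smul, trace_W, Matrix.trace_one] at ht
  have hne : d • (Fintype.card (Idx κ p) : ℂ) ≠ 0 :=
    smul_ne_zero hd (Nat.cast_ne_zero.2 Fintype.card_ne_zero)
  have hj : j = 0 := by
    by_contra hj
    exact hne (by rw [← ht, if_neg hj, smul_zero])
  have hk : k = 0 := by
    by_contra hk
    exact hne (by rw [← ht, if_pos hj, if_neg hk, zero_mul, smul_zero])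
  have hz : ∀ i, ∃ z : ℂ, (h i : Matrix κ κ ℂ) = z • 1 := fun i => by
    by_contra hz
    exact hne (by rw [← ht, if_pos hj, if_pos hk,
      Finset.prod_eq_zero (f := fun i => (h i : Matrix κ κ ℂ).trace) (Finset.mem_univ i)
        (hH.vanish _ (hh i) hz), mul_zero, smul_zero])
  choose z hz using hz
  refine ⟨hj, hk, z, fun i => ⟨(hH.scal _).1 ⟨_, hh i, hz i⟩, hz i⟩, ?_⟩
  rw [hj, hk, show (fun i => (h i : Matrix κ κ ℂ)) = fun i => z i • 1 from funext hz, W_scalar,
    smul_smul] at he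
  exact scalar_inj he

theorem isCT_ext (hp : p.Prime) (hH : IsCT κ m H) (hm' : 0 < m') (hpm : p ∣ m') (hmm : m ∣ m')
    (hsq : Squarefree m') : IsCT (Idx κ p) m' (ext' (p := p) H m' hm' hpm) := by
  classical
  haveI := hH.ne
  have hm : 0 < m := Nat.pos_of_ne_zero hH.sq.ne_zero
  refine ⟨inferInstance, hsq, fun c => ⟨?_, fun hc => ?_⟩, ?_, ?_, ?_⟩
  · rintro ⟨g, ⟨c', h, j, k, hc', hh, hg⟩, hgc⟩
    have hc0 : c ≠ 0 := fun e => by
      rw [e, zero_smul] at hgc
      exact Units.ne_zero g hgc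
    obtain ⟨-, -, z, hz, he⟩ := of_scalar hp hH hh hc0 (hg.symm.trans hgc)
    rw [← he, mul_pow, hc', one_mul, ← Finset.prod_pow]
    refine Finset.prod_eq_one fun i _ => ?_
    obtain ⟨r, rfl⟩ := hmm
    rw [pow_mul, (hz i).1, one_pow]
  · have hc0 : c ≠ 0 := fun e => by rw [e, zero_pow hm'.ne'] at hc; exact zero_ne_one hc
    refine ⟨⟨c • 1, c⁻¹ • 1, by rw [smul_mul_smul_comm, one_mul, mul_inv_cancel₀ hc0, one_smul],
      by rw [smul_mul_smul_comm, one_mul, inv_mul_cancel₀ hc0, one_smul]⟩, ?_, rfl⟩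
    exact ⟨c, fun _ => 1, 0, 0, hc, fun _ => one_mem H, by simp [W_one]⟩
  · rintro g ⟨c, h, j, k, hc, hh, hg⟩ hns
    rw [hg, Matrix.trace_smul, trace_W]
    by_cases hj : j = 0
    · by_cases hk : k = 0
      · by_cases hs : ∀ i, ∃ z : ℂ, (h i : Matrix κ κ ℂ) = z • 1
        · choose z hz using hs
          refine absurd ⟨c * ∏ i, z i, ?_⟩ hns
          rw [hg, hj, hk, show (fun i => (h i : Matrix κ κ ℂ)) = fun i => z i • 1 from funext hz,
            W_scalar, smul_smul]
        · push Not at hs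
          obtain ⟨i, hi⟩ := hs
          rw [if_pos hj, Finset.prod_eq_zero (f := fun i => (h i : Matrix κ κ ℂ).trace)
            (Finset.mem_univ i) (hH.vanish _ (hh i) (fun ⟨z, hz⟩ => hi z hz)), mul_zero, smul_zero]
      · rw [if_pos hj, if_neg hk, zero_mul, smul_zero]
    · rw [if_neg hj, smul_zero]
  · -- counting through coset representatives
    let R : H ⧸ scalars H → GL κ ℂ := fun q => ((q.out : H) : GL κ ℂ)
    let roots := {c : ℂ // c ∈ Polynomial.nthRootsFinset m' (1 : ℂ)}
    have hroots : ∀ c : roots, (c : ℂ) ^ m' = 1 := fun c => (Polynomial.mem_nthRootsFinset hm' _).1 c.2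
    have hunit : ∀ t : roots × (ZMod p → H ⧸ scalars H) × ZMod p × ZMod p,
        ∃ g ∈ ext' (p := p) H m' hm' hpm, (g : Matrix (Idx κ p) (Idx κ p) ℂ) =
          (t.1 : ℂ) • W (fun i => (R (t.2.1 i) : Matrix κ κ ℂ)) t.2.2.1 t.2.2.2 := by
      intro t
      have hc0 : (t.1 : ℂ) ≠ 0 := fun e => by
        have := hroots t.1
        rw [e, zero_pow hm'.ne'] at this
        exact zero_ne_one this
      have h1 := W_inv_spec (fun i => R (t.2.1 i)) t.2.2.1 t.2.2.2 hc0
      exact ⟨⟨_, _, h1, mul_eq_one_comm.1 h1⟩, ⟨_, fun i => R (t.2.1 i), _, _, hroots t.1,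
        fun i => (t.2.1 i).out.2, rfl⟩, rfl⟩
    choose Φ hΦ hΦv using hunit
    let F : roots × (ZMod p → H ⧸ scalars H) × ZMod p × ZMod p → ext' (p := p) H m' hm' hpm :=
      fun t => ⟨Φ t, hΦ t⟩
    have hbij : Function.Bijective F := by
      constructor
      · intro t t' htt
        have e1 : (Φ t : Matrix (Idx κ p) (Idx κ p) ℂ) = Φ t' :=
          congrArg (fun g : GL (Idx κ p) ℂ => (g : Matrix (Idx κ p) (Idx κ p) ℂ)) (congrArg Subtype.val htt)
        rw [hΦv, hΦv] at e1
        obtain ⟨c, h, j, k⟩ := t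
        obtain ⟨c', h', j', k'⟩ := t'
        dsimp only at e1
        have hc0 : (c' : ℂ) ≠ 0 := fun e => by
          have := hroots c'
          rw [e, zero_pow hm'.ne'] at this
          exact zero_ne_one this
        have h1 := W_inv_spec (fun i => R (h' i)) j' k' hc0
        rw [← e1, smul_mul_smul_comm, W_mul, smul_smul] at h1
        obtain ⟨hj, hk, z, hz, he⟩ := of_scalar hp hH
          (h := fun i => R (h i) * (R (h' (i - j + j')))⁻¹)
          (fun i => mul_mem (h i).out.2 (inv_mem (h' _).out.2)) one_ne_zero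
          (h1.trans (one_smul ℂ _).symm)
        rw [← sub_eq_add_neg, sub_eq_zero] at hj hk
        subst hj hk
        have hh : h = h' := by
          funext i
          rw [← Quotient.out_eq' (h i), ← Quotient.out_eq' (h' i)]
          refine (QuotientGroup.eq.2 ?_).symm
          have hz' := (hz i).2
          rw [sub_add_cancel] at hz'
          have hn : (h i).out * ((h' i).out)⁻¹ ∈ scalars H := ⟨z i, by simpa [R] using hz'⟩
          have hcomm : ((h' i).out)⁻¹ * (h i).out = (h i).out * ((h' i).out)⁻¹ := by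
            refine Subtype.ext (Units.ext ?_)
            have e2 : (h i).out = ((h i).out * ((h' i).out)⁻¹) * (h' i).out :=
              (inv_mul_cancel_right _ _).symm
            conv_lhs => rw [e2]
            simp only [Subgroup.coe_mul, Units.val_mul, Subgroup.coe_inv]
            rw [show ((R (h i)) : Matrix κ κ ℂ) * ((R (h' i))⁻¹ : GL κ ℂ).1 = z i • 1 by
              simpa [R] using hz']
            rw [smul_one_mul, mul_smul_comm, Units.inv_mul]
          exact hcomm ▸ hn
        subst hh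
        refine Prod.ext (Subtype.ext ?_) rfl
        have h2 := congrArg (fun A => A * W (fun i => ((R (h (i + j)))⁻¹ : GL κ ℂ).1) (-j) (-k)) e1
        simp only [smul_mul_assoc] at h2
        rw [W_mul_inv _ _ _ _ (fun i => by rw [sub_add_cancel, Units.mul_inv]), smul_smul,
          smul_smul] at h2
        exact mul_right_cancel₀ (fun e0 => by
          have := e_pow (p := p) (-(k * j))
          rw [e0, zero_pow hp.ne_zero] at this
          exact zero_ne_one this) (scalar_inj h2)
      · rintro ⟨g, c, h, j, k, hc, hh, hg⟩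
        have hz : ∀ i, ∃ z : ℂ, z ^ m = 1 ∧ (h i : Matrix κ κ ℂ) =
            z • (R (QuotientGroup.mk ⟨h i, hh i⟩) : Matrix κ κ ℂ) := by
          intro i
          obtain ⟨s, hs⟩ := QuotientGroup.mk_out_eq_mul (scalars H) ⟨h i, hh i⟩
          obtain ⟨z, hz⟩ := (inv_mem s.2 : (s : H)⁻¹ ∈ scalars H)
          refine ⟨z, (hH.scal _).1 ⟨_, ((s : H)⁻¹).2, hz⟩, ?_⟩
          have e2 : (⟨h i, hh i⟩ : H) = (QuotientGroup.mk ⟨h i, hh i⟩ : H ⧸ scalars H).out * (s : H)⁻¹ := by
            rw [hs, mul_inv_cancel_right]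
          have e3 := congrArg (fun g : H => ((g : GL κ ℂ) : Matrix κ κ ℂ)) e2
          dsimp only at e3
          rw [e3, Subgroup.coe_mul, Units.val_mul, hz, mul_smul_comm, mul_one]
        choose z hzm hz using hz
        have hc' : (c * ∏ i, z i) ^ m' = 1 := by
          rw [mul_pow, hc, one_mul, ← Finset.prod_pow]
          refine Finset.prod_eq_one fun i _ => ?_
          obtain ⟨r, rfl⟩ := hmm
          rw [pow_mul, hzm i, one_pow]
        refine ⟨⟨⟨c * ∏ i, z i, (Polynomial.mem_nthRootsFinset hm' _).2 hc'⟩,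
          fun i => QuotientGroup.mk ⟨h i, hh i⟩, j, k⟩, Subtype.ext (Units.ext ?_)⟩
        show (Φ _ : Matrix (Idx κ p) (Idx κ p) ℂ) = g
        rw [hΦv, hg, show (fun i => (h i : Matrix κ κ ℂ)) = fun i => z i •
          (R (QuotientGroup.mk ⟨h i, hh i⟩) : Matrix κ κ ℂ) from funext hz, W_smul, smul_smul]
    rw [← Nat.card_eq_of_bijective F hbij, Nat.card_prod, Nat.card_prod, Nat.card_prod, Nat.card_fun,
      Nat.card_zmod, ← Subgroup.index, index_scalars hH, Fintype.card_prod, Fintype.card_fun, ZMod.card,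
      Nat.card_eq_fintype_card (α := roots), Fintype.card_coe,
      (Complex.isPrimitiveRoot_exp m' hm'.ne').card_nthRootsFinset]
    ring
  · intro q hq hd
    rw [Fintype.card_prod, Fintype.card_fun, ZMod.card] at hd
    rcases hq.dvd_mul.1 hd with h | h
    · exact (hH.prime_deg q hq (hq.dvd_of_dvd_pow h)).trans hmm
    · exact h.trans hpm

end step

/-- The data attached to a group. -/
def HasData (G : Type u) [Group G] : Prop :=
  ∃ (κ : Type) (_ : Fintype κ) (_ : DecidableEq κ) (m : ℕ) (H : Subgroup (GL κ ℂ)) (f : G → GL κ ℂ),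
    IsCT κ m H ∧ (∀ g, f g ∈ H) ∧
    (∀ a b, ∃ c : ℂ, (f (a * b) : Matrix κ κ ℂ) = c • ((f a : Matrix κ κ ℂ) * (f b : Matrix κ κ ℂ))) ∧
    (∀ g, (∃ c : ℂ, (f g : Matrix κ κ ℂ) = c • 1) → g = 1) ∧
    ∀ q : ℕ, q.Prime → (q ∣ m ↔ q ∣ Nat.card G)

theorem hasData_trivial (G : Type u) [Group G] [Finite G] (h : Nat.card G = 1) : HasData G := by
  classical
  haveI : Subsingleton G := (Nat.card_eq_one_iff_unique.1 h).1
  refine ⟨PUnit, inferInstance, inferInstance, 1, ⊥, fun _ => 1, ?_, fun _ => one_mem _,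
    fun _ _ => ⟨1, by simp⟩, fun g _ => Subsingleton.elim g 1, fun q hq => by simp [h]⟩
  refine ⟨inferInstance, squarefree_one, fun c => ⟨?_, fun hc => ⟨1, one_mem _, ?_⟩⟩, ?_, ?_, ?_⟩
  · rintro ⟨g, hg, e⟩
    rw [Subgroup.mem_bot] at hg
    rw [hg, Units.val_one] at e
    rw [pow_one]
    exact scalar_inj (e.symm.trans (one_smul ℂ _).symm)
  · rw [pow_one] at hc
    simp [hc]
  · intro g hg hns
    exact absurd ⟨1, by rw [Subgroup.mem_bot.1 hg]; simp⟩ hns
  · simp
  · intro q hq hd
    simpa using hd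

/-- A solvable nontrivial group maps onto a group of prime order. -/
theorem exists_prime_quotient (G : Type u) [Group G] [Finite G] [Nontrivial G]
    (hsolv : Group.IsSolvable G) : ∃ (p : ℕ) (_ : p.Prime) (q : G → ZMod p) (t : ZMod p → G),
      (∀ a b, q (a * b) = q a + q b) ∧ ∀ a, q (t a) = a := by
  classical
  haveI := hsolv
  have hcomm : commutator G ≠ ⊤ := (Group.IsSolvable.commutator_lt_top_of_nontrivial G).ne
  have hA : Nat.card (Abelianization G) ≠ 1 := by
    show (commutator G).index ≠ 1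
    rwa [Ne, Subgroup.index_eq_one]
  obtain ⟨p, hp, hpd⟩ := Nat.exists_prime_and_dvd hA
  haveI := Fact.mk hp
  rw [← CommGroup.card_monoidHom_of_hasEnoughRootsOfUnity (Abelianization G) ℂ] at hpd
  obtain ⟨φ, hφ⟩ := exists_prime_orderOf_dvd_card' p hpd
  have hζ := Complex.isPrimitiveRoot_exp p hp.ne_zero
  have hval : ∀ g : G, ∃ a : ZMod p, ((φ (Abelianization.of g) : ℂˣ) : ℂ) = e a := by
    intro g
    have h1 : ((φ (Abelianization.of g) : ℂˣ) : ℂ) ^ p = 1 := by
      rw [← Units.val_pow_eq_pow_val, ← MonoidHom.pow_apply]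
      have : φ ^ p = 1 := by
        have := pow_orderOf_eq_one φ
        rwa [hφ] at this
      rw [show (φ ^ p) (Abelianization.of g) = (1 : Abelianization G →* ℂˣ) (Abelianization.of g) by
        rw [← this], MonoidHom.one_apply, Units.val_one]
    obtain ⟨i, -, hi⟩ := hζ.eq_pow_of_pow_eq_one h1
    refine ⟨((i : ℤ) : ZMod p), ?_⟩
    rw [← hi, e, ZMod.stdAddChar_coe, ← Complex.exp_nat_mul]
    congr 1
    push_cast
    ring
  choose q hq using hval
  have hinj : Function.Injective (e (p := p)) := ZMod.injective_stdAddChar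
  have hadd : ∀ a b, q (a * b) = q a + q b := fun a b => hinj (by
    rw [AddChar.map_add_eq_mul, ← hq, ← hq, ← hq, map_mul, map_mul, Units.val_mul])
  obtain ⟨g₀, hg₀⟩ : ∃ g, q g ≠ 0 := by
    by_contra h
    push Not at h
    have : φ = 1 := MonoidHom.ext fun x => by
      induction x using QuotientGroup.induction_on with
      | _ g => exact Units.ext ((hq g).trans (by rw [h g, AddChar.map_zero_eq_one]; rfl))
    rw [this, orderOf_one] at hφ
    exact hp.ne_one hφ.symm
  have hq1 : q 1 = 0 := by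
    have := hadd 1 1
    rw [one_mul] at this
    exact left_eq_add.1 this
  have hpow : ∀ n : ℕ, q (g₀ ^ n) = (n : ZMod p) * q g₀ := fun n => by
    induction n with
    | zero => simp [hq1]
    | succ n ih => rw [pow_succ, hadd, ih]; push_cast; ring
  exact ⟨p, hp, q, fun a => g₀ ^ (a * (q g₀)⁻¹).val, hadd, fun a => by
    rw [hpow, ZMod.natCast_zmod_val, mul_assoc, inv_mul_cancel₀ hg₀, mul_one]⟩

theorem hasData : ∀ (n : ℕ) (G : Type u) [Group G] [Finite G], Nat.card G ≤ n →
    Group.IsSolvable G → HasData G := by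
  intro n
  induction n with
  | zero => intro G _ _ h _; exact absurd h (by have := Nat.card_pos (α := G); omega)
  | succ n ih =>
    intro G _ _ hcard hsolv
    classical
    by_cases h1 : Nat.card G = 1
    · exact hasData_trivial G h1
    haveI : Nontrivial G := Finite.one_lt_card_iff_nontrivial.1 (by
      have := Nat.card_pos (α := G); omega)
    obtain ⟨p, hp, q, t, hadd, ht⟩ := exists_prime_quotient G hsolv
    haveI := Fact.mk hp
    have hq1 : q 1 = 0 := by
      have := hadd 1 1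
      rw [one_mul] at this
      exact left_eq_add.1 this
    have hqinv : ∀ g, q g⁻¹ = -q g := fun g => by
      have := hadd g⁻¹ g
      rw [inv_mul_cancel, hq1] at this
      exact eq_neg_of_add_eq_zero_left this.symm
    let N : Subgroup G :=
      { carrier := {g | q g = 0}
        one_mem' := hq1
        mul_mem' := fun {a b} (ha : q a = 0) (hb : q b = 0) => show q (a * b) = 0 by
          rw [hadd, ha, hb, add_zero]
        inv_mem' := fun {a} (ha : q a = 0) => show q a⁻¹ = 0 by rw [hqinv, ha, neg_zero] }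
    have hcardN : Nat.card G = p * Nat.card N := by
      have : G ≃ ZMod p × N :=
        { toFun := fun g => (q g, ⟨(t (q g))⁻¹ * g, show q _ = 0 by
            rw [hadd, hqinv, ht, neg_add_cancel]⟩)
          invFun := fun x => t x.1 * x.2
          left_inv := fun g => by simp
          right_inv := fun x => by
            have e1 : q (t x.1 * x.2) = x.1 := by
              rw [hadd, ht, show q (x.2 : G) = 0 from x.2.2, add_zero]
            refine Prod.ext e1 (Subtype.ext ?_)
            show (t (q (t x.1 * x.2)))⁻¹ * (t x.1 * x.2) = _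
            rw [e1, inv_mul_cancel_left] }
      rw [Nat.card_congr this, Nat.card_prod, Nat.card_zmod]
    have hN : Nat.card N ≤ n := by
      have := Nat.card_pos (α := N)
      have := Nat.mul_le_mul_right (Nat.card N) hp.two_le
      omega
    haveI : Group.IsSolvable N := by haveI := hsolv; infer_instance
    obtain ⟨κ, i1, i2, m, H, f, hH, hfH, hfm, hfi, hπ⟩ := ih N hN inferInstance
    set m' := if p ∣ m then m else m * p with hm'
    have hmm : m ∣ m' := by rw [hm']; split_ifs <;> simp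
    have hpm : p ∣ m' := by rw [hm']; split_ifs with h <;> simp [h]
    have hsq : Squarefree m' := by
      rw [hm']
      split_ifs with h
      · exact hH.sq
      · exact (Nat.squarefree_mul ((hp.coprime_iff_not_dvd).2 h).symm).2 ⟨hH.sq, hp.squarefree⟩
    have hm0 : 0 < m' := Nat.pos_of_ne_zero hsq.ne_zero
    have hmprime : ∀ r : ℕ, r.Prime → (r ∣ m' ↔ r ∣ m ∨ r = p) := fun r hr => by
      rw [hm']
      split_ifs with h
      · exact ⟨Or.inl, fun h' => h'.elim id (fun e => e ▸ h)⟩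
      · rw [hr.dvd_mul, Nat.prime_dvd_prime_iff_eq hr hp]
    -- the cocycle
    let ν : G → ZMod p → N := fun g i => ⟨(t i)⁻¹ * g * t (i - q g), show q _ = 0 by
      rw [hadd, hadd, hqinv, ht, ht]; ring⟩
    have hν : ∀ a b i, ν (a * b) i = ν a i * ν b (i - q a) := fun a b i => Subtype.ext (by
      simp only [ν, Subgroup.coe_mul, hadd, sub_sub]
      group)
    have hunit : ∀ g : G, ∃ u ∈ ext' (p := p) H m' hm0 hpm,
        (u : Matrix (Idx κ p) (Idx κ p) ℂ) = W (fun i => (f (ν g i) : Matrix κ κ ℂ)) (q g) 0 := by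
      intro g
      have h1 := W_inv_spec (fun i => f (ν g i)) (q g) 0 (one_ne_zero (α := ℂ))
      rw [one_smul] at h1
      exact ⟨⟨_, _, h1, mul_eq_one_comm.1 h1⟩, ⟨1, fun i => f (ν g i), _, _, one_pow _, fun i => hfH _,
        (one_smul ℂ _).symm⟩, rfl⟩
    choose F hF hFv using hunit
    refine ⟨Idx κ p, inferInstance, inferInstance, m', ext' (p := p) H m' hm0 hpm, F,
      isCT_ext hp hH hm0 hpm hmm hsq, hF, fun a b => ?_, fun g hg => ?_, fun r hr => ?_⟩
    · choose c hc using fun i => hfm (ν a i) (ν b (i - q a))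
      refine ⟨∏ i, c i, ?_⟩
      rw [hFv, hFv, hFv, W_mul, zero_mul, AddChar.map_zero_eq_one, one_smul, add_zero, ← hadd, ← W_smul]
      congr 1
      funext i
      rw [hν, hc]
    · obtain ⟨c, hc⟩ := hg
      haveI := hH.ne
      have hc0 : c ≠ 0 := fun e0 => by
        rw [e0, zero_smul] at hc
        exact Units.ne_zero (F g) hc
      rw [hFv, ← one_smul ℂ (W (fun i => (f (ν g i) : Matrix κ κ ℂ)) (q g) 0)] at hc
      obtain ⟨hj, -, z, hz, -⟩ := of_scalar hp hH (fun i => hfH _) hc0 hc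
      have h0 := congrArg Subtype.val (hfi _ ⟨_, (hz 0).2⟩)
      simp only [ν, hj, sub_zero, OneMemClass.coe_one] at h0
      calc g = t 0 * ((t 0)⁻¹ * g * t 0) * (t 0)⁻¹ := by group
        _ = 1 := by rw [h0]; group
    · rw [hmprime r hr, hπ r hr, hcardN, hr.dvd_mul, Nat.prime_dvd_prime_iff_eq hr hp, or_comm]

end CfsgLib.CentralTypeEmbed
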