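import Mathlib

/-!
# Monomial block matrices for the wreath construction of groups of central type
-/

namespace CfsgLib.CentralTypeEmbed

open Matrix

set_option autoImplicit false
set_option linter.unusedSectionVars false

variable {κ : Type} [Fintype κ] [DecidableEq κ] {p : ℕ} [NeZero p]

/-- The standard character. -/
noncomputable def e : AddChar (ZMod p) ℂ := ZMod.stdAddChar

theorem e_pow (a : ZMod p) : (e a) ^ p = 1 := by
  rw [← AddChar.map_nsmul_eq_pow, nsmul_eq_mul, ZMod.natCast_self, zero_mul, AddChar.map_zero_eq_one]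

theorem sum_e_mul (k : ZMod p) : ∑ a : ZMod p, e (k * a) = if k = 0 then (p : ℂ) else 0 := by
  have h := AddChar.sum_mulShift (R := ZMod p) k (ZMod.isPrimitive_stdAddChar p)
  simp only [ZMod.card, mul_comm _ k] at h
  exact h.trans (by split_ifs <;> simp)

/-- The index type of the wreath construction. -/
abbrev Idx (κ : Type) (p : ℕ) : Type := (ZMod p → κ) × ZMod p

/-- The block monomial matrix: diagonal factors `h`, shift `j`, twist `k`. -/
noncomputable def W (h : ZMod p → Matrix κ κ ℂ) (j k : ZMod p) : Matrix (Idx κ p) (Idx κ p) ℂ :=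
  fun x y => if x.2 = y.2 + j then e (k * y.2) * ∏ i, h i (x.1 i) (y.1 (i - j)) else 0

theorem W_mul (h h' : ZMod p → Matrix κ κ ℂ) (j j' k k' : ZMod p) :
    W h j k * W h' j' k' = e (k * j') • W (fun i => h i * h' (i - j)) (j + j') (k + k') := by
  ext ⟨x, a⟩ ⟨z, c⟩
  rw [Matrix.mul_apply, Fintype.sum_prod_type_right, Matrix.smul_apply, smul_eq_mul,
    Finset.sum_eq_single (c + j') (fun b _ hb => by simp [W, hb]) (by simp)]
  simp only [W, if_true]
  by_cases ha : a = c + (j + j')
  · rw [if_pos ha]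
    have hb : a = c + j' + j := by rw [ha]; ring
    simp only [if_pos hb]
    rw [← mul_assoc (e (k * j')), ← AddChar.map_add_eq_mul,
      show k * j' + (k + k') * c = k * (c + j') + k' * c by ring, AddChar.map_add_eq_mul]
    have key : ∀ y : ZMod p → κ, (∏ i, h' i (y i) (z (i - j'))) =
        ∏ i, h' (i - j) (y (i - j)) (z (i - (j + j'))) := fun y => by
      rw [← Equiv.prod_comp (Equiv.subRight j)]
      refine Finset.prod_congr rfl fun i _ => ?_
      simp [sub_sub]
    simp only [Matrix.mul_apply]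
    rw [Fintype.prod_sum, Finset.mul_sum]
    refine Fintype.sum_equiv ((Equiv.subRight j).symm.arrowCongr (Equiv.refl κ)) _ _ fun y => ?_
    simp only [key, Equiv.arrowCongr_apply, Equiv.coe_refl, Function.id_comp, Equiv.symm_symm,
      Function.comp_apply, Equiv.subRight_apply, Finset.prod_mul_distrib, id_eq]
    ring
  · rw [if_neg ha, mul_zero]
    refine Finset.sum_eq_zero fun y _ => ?_
    rw [if_neg (fun hb => ha (by rw [hb]; ring)), zero_mul]

theorem W_scalar (c : ZMod p → ℂ) :
    W (fun i => c i • (1 : Matrix κ κ ℂ)) 0 0 = (∏ i, c i) • (1 : Matrix (Idx κ p) (Idx κ p) ℂ) := by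
  ext ⟨x, a⟩ ⟨y, b⟩
  simp only [W, add_zero, zero_mul, AddChar.map_zero_eq_one, one_mul, sub_zero, Matrix.smul_apply,
    Matrix.one_apply, smul_eq_mul, Prod.mk.injEq, Finset.prod_mul_distrib]
  by_cases hb : a = b
  · by_cases hx : x = y
    · simp [hb, hx]
    · obtain ⟨i, hi⟩ := Function.ne_iff.1 hx
      rw [if_pos hb, Finset.prod_eq_zero (f := fun i => if x i = y i then (1 : ℂ) else 0) (Finset.mem_univ i) (if_neg hi), mul_zero]
      simp [hx]
  · simp [hb]

theorem W_one : W (fun _ => (1 : Matrix κ κ ℂ)) 0 0 = (1 : Matrix (Idx κ p) (Idx κ p) ℂ) := by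
  simpa using W_scalar (κ := κ) (fun _ : ZMod p => (1 : ℂ))

theorem W_smul (c : ZMod p → ℂ) (h : ZMod p → Matrix κ κ ℂ) (j k : ZMod p) :
    W (fun i => c i • h i) j k = (∏ i, c i) • W h j k := by
  ext x y
  simp only [W, Matrix.smul_apply, smul_eq_mul, Finset.prod_mul_distrib]
  split_ifs <;> ring

theorem trace_W (h : ZMod p → Matrix κ κ ℂ) (j k : ZMod p) :
    (W h j k).trace = if j = 0 then (if k = 0 then (p : ℂ) else 0) * ∏ i, (h i).trace else 0 := by
  simp only [Matrix.trace, Matrix.diag, W]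
  by_cases hj : j = 0
  · simp only [hj, add_zero, if_true, sub_zero]
    rw [Fintype.sum_prod_type_right, ← sum_e_mul, Fintype.prod_sum, Finset.sum_mul]
    exact Finset.sum_congr rfl fun a _ => by rw [Finset.mul_sum]
  · simp [hj]

/-- The inverse of a block monomial matrix with invertible factors. -/
theorem W_mul_inv (h h' : ZMod p → Matrix κ κ ℂ) (j k : ZMod p)
    (hh : ∀ i, h i * h' (i - j) = 1) :
    W h j k * W h' (-j) (-k) = e (-(k * j)) • (1 : Matrix (Idx κ p) (Idx κ p) ℂ) := by
  rw [W_mul, add_neg_cancel, add_neg_cancel, mul_neg]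
  simp only [hh]
  rw [W_one]

end CfsgLib.CentralTypeEmbed
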